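import Cfsg.Agent.Fus93.PStable.Fusion
import Cfsg.Agent.Fusion92.SecW
import Cfsg.Agent.Fusion91.Core

/-!
The fusion system of a `p`-stable group, `p` odd, is constrained: otherwise the preimage of `Z(J)` in
`C_S(Q)/Z(Q)`, `Q` the core, is a larger normal subgroup.
-/

set_option autoImplicit false
set_option linter.all false

namespace Cfsg.Agent.Fus93.PStable

open Cfsg Cfsg.Agent.Fusion Cfsg.Agent.LocalEven61
open Cfsg.FusionSystem (normalizerIn centralizerIn)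
open scoped commutatorElement

universe u

variable {G : Type u} [Group G] [Finite G] {p : ℕ} [Fact p.Prime]

theorem isConstrained_of_stable (hp : p ≠ 2) (S : Sylow p G) (hst : Cfsg.IsNormalizerPStable p G) :
    (groupFusionSystem (S : Subgroup G)).IsConstrained p := by
  let W : ∀ (Q : Type u) [Group Q], Subgroup Q := fun Q _ => zjA Q
  have hW : Fusion92.IsInvariantW p W := fun Q R _ _ _ _ φ => map_zjA φ
  have hW1 : ∀ (Q : Type u) [Group Q] [Finite Q], IsPGroup p Q → Nontrivial Q → W Q ≠ ⊥ :=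
    fun Q _ _ hQ _ => zjA_ne_bot hQ
  set F := groupFusionSystem (S : Subgroup G) with hF
  have hsat : F.IsSaturated p := groupFusionSystem_isSaturated S
  set Q := F.core with hQdef
  have hQn : F.IsNormal Q := Fusion91.isNormal_core F
  have hQS : Q ≤ (S : Subgroup G) := hQn.1
  have hQsc := stronglyClosed_of_normal hQn
  have hSQ : (S : Subgroup G) ≤ Subgroup.normalizer (Q : Set G) := stronglyClosed_le_normalizer hQsc
  refine ⟨hsat, Q, hQn, hQS, fun R hR x hx => ?_⟩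
  -- conjugates of a normal subgroup
  obtain ⟨f, hf⟩ := Fusion.isConj_iff.mp hR
  have hRQ : R = Q := by
    obtain ⟨f', -, he, hfQ⟩ := (Fusion.isNormal_iff.mp hQn).2 Q f hf.1
    apply SetLike.coe_injective
    exact hf.2.symm.trans ((Set.image_congr fun y hy => (he hy).symm).trans hfQ)
  rw [hRQ] at hx ⊢
  by_contra hxQ
  -- `C = C_G(Q)` with Sylow subgroup `C_S(Q)`
  set C := Subgroup.centralizer (Q : Set G) with hC
  have hfn : F.IsFullyNormalized Q :=
    ⟨hQS, fun R _ => Subgroup.card_le_of_le (le_inf (Fusion.normalizerIn_le _ R)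
      ((Fusion.normalizerIn_le _ R).trans hSQ))⟩
  have hsyl : IsSylowIn p (centralizerIn (S : Subgroup G) Q) C :=
    (fullyCentralized_group_iff S hQS).mp
      (Fusion.fullyCentralized_of_fullyNormalized S.isPGroup' hsat hfn)
  obtain ⟨P, hP⟩ := id hsyl
  have hPmap : (P : Subgroup ↥C).map C.subtype = centralizerIn (S : Subgroup G) Q := by
    rw [hP]; exact Subgroup.map_subgroupOf_eq_of_le inf_le_right
  set Z₀ : Subgroup ↥C := Q.subgroupOf C with hZ₀
  have hZ₀c : ∀ (c z : ↥C), z ∈ Z₀ → c * z = z * c := fun c z hz =>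
    Subtype.ext (Subgroup.mem_centralizer_iff.mp c.2 z hz).symm
  haveI : Z₀.Normal := ⟨fun z hz c => by rw [hZ₀c c z hz, mul_inv_cancel_right]; exact hz⟩
  have hZ₀p : IsPGroup p Z₀ :=
    (S.isPGroup'.to_le hQS).of_injective
      (((C.subtype.comp Z₀.subtype).codRestrict Q fun z => z.2))
      (fun a b h => Subtype.ext (Subtype.ext (congrArg (fun q : Q => (q : G)) h)))
  have hZP : Z₀ ≤ (P : Subgroup ↥C) := fun z hz => by
    rw [hP]; exact ⟨hQS hz, z.2⟩
  have hPne : Z₀ ≠ (P : Subgroup ↥C) := fun he => hxQ (by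
    have : (⟨x, hx.2⟩ : ↥C) ∈ Z₀ := he ▸ (hP ▸ (hx : x ∈ centralizerIn (S : Subgroup G) Q))
    exact this)
  -- the new subgroup
  set R₀ := Fusion92.secW W (P : Subgroup ↥C) Z₀ with hR₀
  have hlt : Z₀ < R₀ := Fusion92.lt_secW hW1 P.isPGroup' hZP hPne
    (Subgroup.normal_subgroupOf_of_le_normalizer (by rw [Subgroup.normalizer_eq_top Z₀]; exact le_top))
  set R₁ := R₀.map C.subtype with hR₁
  have hR₁S : R₁ ≤ centralizerIn (S : Subgroup G) Q := hPmap ▸ Subgroup.map_mono (Fusion92.secW_le _ _)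
  have hstC : Cfsg.IsNormalizerPStable p (↥C ⧸ Z₀) :=
    isNormalizerPStable_quotient hp (isNormalizerPStable_subgroup hst C) Z₀ hZ₀p
      fun k _ z hz => hZ₀c k z hz
  set π := QuotientGroup.mk' Z₀ with hπ
  let P' : Sylow p (↥C ⧸ Z₀) := P.mapSurjective (QuotientGroup.mk'_surjective Z₀)
  have hR₀map : R₀.map π = Cfsg.inducedFunctor W (P' : Subgroup (↥C ⧸ Z₀)) :=
    Fusion92.map_secW_quotient hW _ _ P.isPGroup'
  have hab : ∀ a ∈ R₀, ∀ b ∈ R₀, ⁅a, b⁆ ∈ Z₀ := by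
    intro a ha b hb
    refine (QuotientGroup.eq_one_iff _).mp ?_
    show π ⁅a, b⁆ = 1
    rw [map_commutatorElement, commutatorElement_eq_one_iff_mul_comm]
    have h1 : π a ∈ Cfsg.inducedFunctor W (P' : Subgroup (↥C ⧸ Z₀)) := hR₀map ▸ ⟨a, ha, rfl⟩
    have h2 : π b ∈ Cfsg.inducedFunctor W (P' : Subgroup (↥C ⧸ Z₀)) := hR₀map ▸ ⟨b, hb, rfl⟩
    obtain ⟨a', ha', hae⟩ := h1
    obtain ⟨b', hb', hbe⟩ := h2
    rw [← hae, ← hbe]
    exact congrArg Subtype.val (Subgroup.mem_centralizer_iff.mp hb'.2 a' ha'.1)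
  -- `R₁` is invariant under `N(Q) ∩ N(C_S(Q))`
  have hinv : ∀ m ∈ Subgroup.normalizer (Q : Set G),
      m ∈ Subgroup.normalizer (centralizerIn (S : Subgroup G) Q : Set G) → ∀ y ∈ R₁, m * y * m⁻¹ ∈ R₁ := by
    intro m hmQ hmT
    have hmC : ∀ c : ↥C, m * c * m⁻¹ ∈ C := fun c => by
      refine Subgroup.mem_centralizer_iff.mpr fun q hq => ?_
      have hq' : m⁻¹ * q * m ∈ Q := by simpa using Fusion.conj_mem_of_mem_normalizer (inv_mem hmQ) hq
      calc q * (m * c * m⁻¹) = m * ((m⁻¹ * q * m) * c) * m⁻¹ := by group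
        _ = m * (c * (m⁻¹ * q * m)) * m⁻¹ := by rw [Subgroup.mem_centralizer_iff.mp c.2 _ hq']
        _ = _ := by group
    let φ : ↥(P : Subgroup ↥C) →* ↥C :=
      ((MulAut.conj m).toMonoidHom.comp (C.subtype.comp (P : Subgroup ↥C).subtype)).codRestrict C
        fun x => hmC x.1
    have hφ : ∀ x, ((φ x : ↥C) : G) = m * ((x : ↥C) : G) * m⁻¹ := fun x => rfl
    have hφi : Function.Injective φ := fun a b h => by
      have := congrArg Subtype.val h
      simp only [hφ] at this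
      exact Subtype.ext (Subtype.ext (mul_left_cancel (mul_right_cancel this)))
    have hmemP : ∀ c : ↥C, c ∈ (P : Subgroup ↥C) ↔ (c : G) ∈ centralizerIn (S : Subgroup G) Q := fun c => by
      rw [hP]; rfl
    have hr : φ.range = (P : Subgroup ↥C) := by
      refine Subgroup.eq_of_le_of_card_ge ?_
        (Nat.card_congr (MonoidHom.ofInjective hφi).toEquiv).le
      rintro _ ⟨x, rfl⟩
      exact (hmemP _).mpr ((Subgroup.mem_normalizer_iff.mp hmT _).mp ((hmemP _).mp x.2))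
    have hB : (Z₀.subgroupOf (P : Subgroup ↥C)).map φ = Z₀ := by
      refine Subgroup.eq_of_le_of_card_ge ?_ ?_
      · rintro _ ⟨x, hx, rfl⟩
        exact Fusion.conj_mem_of_mem_normalizer hmQ hx
      · rw [Subgroup.card_map_of_injective hφi, Nat.card_congr (Subgroup.subgroupOfEquivOfLe hZP).toEquiv]
    have hmap := Fusion92.secW_map_of_map (W := W) hW P.isPGroup' φ hφi hr hB
    rintro _ ⟨y, hy, rfl⟩
    refine ⟨φ ⟨y, Fusion92.secW_le _ _ hy⟩, ?_, rfl⟩
    rw [hR₀, SetLike.mem_coe, ← hmap]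
    exact ⟨_, hy, rfl⟩
  -- strong closure
  have hclosed : F.StronglyClosed R₁ := by
    refine stronglyClosed_iff.mpr ⟨hR₁S.trans inf_le_left, fun T f hf x hxT hxR => ?_⟩
    obtain ⟨f', hf', he, hfQ⟩ := (Fusion.isNormal_iff.mp hQn).2 T f hf
    obtain ⟨-, hfS, g, hg⟩ := isMap_group_iff.mp hf'
    have hxg : x ∈ T ⊔ Q := (le_sup_left : T ≤ T ⊔ Q) hxT
    rw [← he hxT, hg x hxg]
    have hgQ : g ∈ Subgroup.normalizer (Q : Set G) := by
      rw [Subgroup.mem_normalizer_iff_map_conj_eq]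
      apply SetLike.coe_injective
      conv_rhs => rw [← hfQ]
      exact Set.image_congr fun y hy => (hg y ((le_sup_right : Q ≤ T ⊔ Q) hy)).symm
    have hgS : g * x * g⁻¹ ∈ (S : Subgroup G) := hg x hxg ▸ hfS x hxg
    obtain ⟨c, hc, m, hm, rfl⟩ := ConjFunctor.exists_mul_of_frattini
      (show ConjFunctor.IsSylowIn p (centralizerIn (S : Subgroup G) Q) C from
        ⟨inf_le_right, isPGroup_centralizerIn S Q, by
          rw [Subgroup.relIndex, ← hP]; exact P.not_dvd_index⟩) (g := g)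
      (Coprime.le_normalizer_centralizer le_rfl hgQ)
    have hmQ : m ∈ Subgroup.normalizer (Q : Set G) := by
      have := mul_mem (inv_mem (Subgroup.centralizer_le_normalizer _ hc)) hgQ
      rwa [inv_mul_cancel_left] at this
    have hy := hinv m hmQ hm x hxR
    have e : c * m * x * (c * m)⁻¹ = c * (m * x * m⁻¹) * c⁻¹ := by group
    rw [e] at hgS ⊢
    obtain ⟨y, hyR, hye⟩ := hy
    have hye' : ((y : ↥C) : G) = m * x * m⁻¹ := hye
    rw [← hye'] at hgS ⊢
    have hcy : (⟨c, hc⟩ * y * (⟨c, hc⟩ : ↥C)⁻¹ : ↥C) ∈ (P : Subgroup ↥C) := by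
      rw [hP]; exact ⟨hgS, C.mul_mem (C.mul_mem hc y.2) (C.inv_mem hc)⟩
    obtain ⟨n, hn, hne⟩ := strongCtl_zjA hp _ hstC P' {π y} (π ⟨c, hc⟩)
      (Set.singleton_subset_iff.mpr ⟨y, Fusion92.secW_le _ _ hyR, rfl⟩)
      (by
        rintro _ ⟨_, rfl, rfl⟩
        exact ⟨_, hcy, by rw [map_mul, map_mul, map_inv]⟩)
    have h2 : π (⟨c, hc⟩ * y * (⟨c, hc⟩ : ↥C)⁻¹) ∈ Cfsg.inducedFunctor W (P' : Subgroup (↥C ⧸ Z₀)) := by
      rw [map_mul, map_mul, map_inv, ← hne (π y) rfl]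
      exact (Subgroup.mem_normalizer_iff.mp hn _).mp (hR₀map ▸ ⟨y, hyR, rfl⟩)
    rw [← hR₀map] at h2
    obtain ⟨r, hr, hre⟩ := h2
    have h3 : r⁻¹ * (⟨c, hc⟩ * y * (⟨c, hc⟩ : ↥C)⁻¹) ∈ Z₀ := QuotientGroup.eq.mp hre
    refine ⟨⟨c, hc⟩ * y * (⟨c, hc⟩ : ↥C)⁻¹, ?_, rfl⟩
    simpa using R₀.mul_mem hr (hlt.le h3)
  -- normality
  set Z₁ := Z₀.map C.subtype with hZ₁
  have hZ₁e : ∀ z, z ∈ Z₁ ↔ z ∈ Q ∧ z ∈ C := fun z => by
    rw [hZ₁, hZ₀, Subgroup.subgroupOf_map_subtype]; rfl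
  have hZclosed : F.StronglyClosed Z₁ := by
    refine stronglyClosed_iff.mpr ⟨fun z hz => hQS ((hZ₁e z).mp hz).1, fun T f hf z hzT hz => ?_⟩
    obtain ⟨hzQ, hzC⟩ := (hZ₁e z).mp hz
    obtain ⟨f', hf', he, hfQ⟩ := (Fusion.isNormal_iff.mp hQn).2 T f hf
    rw [← he hzT]
    refine (hZ₁e _).mpr ⟨hfQ.subset ⟨z, hzQ, rfl⟩, ?_⟩
    exact (Fusion.map_mem_centralizer hf' le_sup_right hfQ ((le_sup_left : T ≤ T ⊔ Q) hzT) hzC).2
  have hnormal : F.IsNormal R₁ := by
    refine isNormal_of_series S.isPGroup' hsat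
      (fun i => if i = 0 then ⊥ else if i = 1 then Z₁ else R₁) 2 rfl rfl (fun i hi => ?_) fun i hi => ?_
    · rcases (by omega : i = 0 ∨ i = 1 ∨ i = 2) with rfl | rfl | rfl
      · simp only [if_true]
        exact stronglyClosed_iff.mpr ⟨bot_le, fun R f hf x _ hx => by
          rw [Subgroup.mem_bot] at hx ⊢
          rw [hx, hf.map_one]⟩
      · simpa using hZclosed
      · simpa using hclosed
    · rcases (by omega : i = 0 ∨ i = 1) with rfl | rfl
      · simp only [if_true, Nat.zero_add, one_ne_zero, if_false]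
        refine Subgroup.commutator_le.mpr fun r hr z hz => Subgroup.mem_bot.mpr ?_
        rw [commutatorElement_eq_one_iff_mul_comm]
        exact (Subgroup.mem_centralizer_iff.mp (hR₁S hr).2 z ((hZ₁e z).mp hz).1).symm
      · simp only [one_ne_zero, if_false, if_true, show (1 + 1 : ℕ) ≠ 0 by omega,
          show (1 + 1 : ℕ) ≠ 1 by omega]
        refine Subgroup.commutator_le.mpr ?_
        rintro _ ⟨a, ha, rfl⟩ _ ⟨b, hb, rfl⟩
        exact ⟨⁅a, b⁆, hab a ha b hb, map_commutatorElement C.subtype a b⟩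
  have hle : R₁ ≤ Q := le_sSup hnormal
  refine hlt.ne (le_antisymm hlt.le fun r hr => ?_)
  exact hle ⟨r, hr, rfl⟩

end Cfsg.Agent.Fus93.PStable
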