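import Cfsg.Agent.Fus93.PStable.Control
import Cfsg.Agent.Lib.Fusion.Group
import Cfsg.Agent.Lib.Fusion.Normal
import Cfsg.Agent.Lib.Fusion.Saturation

/-! A `p`-stable group fusion system has a nontrivial normal subgroup. -/

set_option autoImplicit false
set_option linter.all false

namespace Cfsg.Agent.Fus93.PStable

open Cfsg Cfsg.Agent.Fusion Cfsg.Agent.LocalEven61
open Cfsg.FusionSystem (normalizerIn)

variable {G : Type*} [Group G] [Finite G] {p : ℕ} [Fact p.Prime]

theorem isNormalizerPStable_of_fusion (S : Sylow p G)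
    (hst : ∀ Q : Subgroup G, (groupFusionSystem (S : Subgroup G)).IsFullyNormalized Q →
      ∀ χ : MulAut ↥Q, χ ∈ (groupFusionSystem (S : Subgroup G)).autGroup Q →
      (∀ a : ↥Q, (χ a⁻¹) * a * (χ a⁻¹) * (χ (χ a)) = 1) →
      χ ∈ ((pCore p ↥((groupFusionSystem (S : Subgroup G)).autGroup Q)).map
        ((groupFusionSystem (S : Subgroup G)).autGroup Q).subtype : Subgroup (MulAut ↥Q))) :
    Cfsg.IsNormalizerPStable p G := by
  intro P hP g hg hq
  obtain ⟨c₀, hc₀⟩ := exists_conj_le_sylow S hP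
  obtain ⟨c₁, hc₁, hsyl⟩ := exists_conj_isSylowIn_normalizer S hc₀
  rw [conjSub_conjSub] at hc₁ hsyl
  set c := c₁ * c₀ with hc
  set Q := conjSub c P with hQdef
  have hfn := (fullyNormalized_group_iff S hc₁).mpr hsyl
  set A := (groupFusionSystem (S : Subgroup G)).autGroup Q with hAdef
  let ι : ↥(Subgroup.normalizer (P : Set G)) →* ↥(normalizerIn ⊤ Q) :=
    ((MulAut.conj c).toMonoidHom.comp (Subgroup.normalizer (P : Set G)).subtype).codRestrict _
      fun x => ⟨Subgroup.mem_top _, mem_normalizer_conjSub x.2⟩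
  let ψ : ↥(Subgroup.normalizer (P : Set G)) →* ↥A :=
    ((conjAutHom ⊤ Q).comp ι).codRestrict A fun x => by
      rw [hAdef, autGroup_group S hc₁, ← range_conjAutHom]; exact ⟨_, rfl⟩
  have hψ : ∀ (x : ↥(Subgroup.normalizer (P : Set G))) (y : ↥Q),
      (((ψ x : MulAut ↥Q) y : ↥Q) : G) = (c * x * c⁻¹) * y * (c * x * c⁻¹)⁻¹ := fun x y => rfl
  haveI := Subgroup.normal_subgroupOf_centralizer_normalizer (P : Set G)
  set C := (Subgroup.centralizer (P : Set G)).subgroupOf (Subgroup.normalizer (P : Set G)) with hC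
  have hker : ψ.ker = C := by
    ext x
    rw [MonoidHom.mem_ker, hC, Subgroup.mem_subgroupOf, Subgroup.mem_centralizer_iff]
    constructor
    · intro h y hy
      have h1 := congrArg (fun χ : ↥A => (((χ : MulAut ↥Q) ⟨c * y * c⁻¹, conj_mem_conjSub hy⟩ : ↥Q) : G)) h
      simp only [hψ] at h1
      have h2 : c * ((x : G) * y * (x : G)⁻¹) * c⁻¹ = c * y * c⁻¹ := by
        simpa [mul_assoc] using h1
      exact (mul_inv_eq_iff_eq_mul.mp ((MulAut.conj c).injective (by simpa using h2))).symm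
    · intro h
      refine Subtype.ext (MulEquiv.ext fun y => Subtype.ext ?_)
      obtain ⟨z, hz, hzy⟩ := y.2
      rw [hψ]
      show _ = (y : G)
      rw [← hzy]
      show c * x * c⁻¹ * (c * z * c⁻¹) * (c * x * c⁻¹)⁻¹ = c * z * c⁻¹
      calc c * x * c⁻¹ * (c * z * c⁻¹) * (c * x * c⁻¹)⁻¹ = c * ((x : G) * z) * (x : G)⁻¹ * c⁻¹ := by group
        _ = c * (z * (x : G)) * (x : G)⁻¹ * c⁻¹ := by rw [h z hz]
        _ = _ := by group
  let F : ↥(Subgroup.normalizer (P : Set G)) ⧸ C →* ↥A := QuotientGroup.lift C ψ (le_of_eq hker.symm)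
  have hF : Function.Injective F := by
    rw [← MonoidHom.ker_eq_bot_iff, eq_bot_iff]
    intro x hx
    obtain ⟨x, rfl⟩ := QuotientGroup.mk'_surjective C x
    refine Subgroup.mem_bot.mpr ((QuotientGroup.eq_one_iff _).mpr ?_)
    rw [← hker]
    exact hx
  have hmem := hst Q hfn (ψ ⟨g, hg⟩ : MulAut ↥Q) (SetLike.coe_mem _) (by
    intro a
    apply Subtype.ext
    obtain ⟨z, hz, hza⟩ := a.2
    have hza' : c * z * c⁻¹ = (a : G) := hza
    have h2 := PLocalB.quad_conj hq hz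
    simp only [Subgroup.coe_mul, OneMemClass.coe_one, hψ, InvMemClass.coe_inv, ← hza']
    calc _ = c * ((g * z⁻¹ * g⁻¹) * z * (g * z⁻¹ * g⁻¹) *
          ((g * (g * z * g⁻¹ * z⁻¹) * g⁻¹) * (g * z * g⁻¹))) * c⁻¹ := by group
      _ = _ := by rw [h2]; group)
  obtain ⟨χ, hχ, he⟩ := hmem
  refine Thompson.le_pCore (N := (pCore p ↥A).comap F) inferInstance
    (Thompson.isPGroup_pCore.comap_of_injective F hF) ?_
  show ψ ⟨g, hg⟩ ∈ pCore p ↥A
  exact (Subtype.ext he : χ = ψ ⟨g, hg⟩) ▸ hχ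

theorem core_ne_bot (hp : p ≠ 2) (S : Sylow p G) (hS : (S : Subgroup G) ≠ ⊥)
    (hst : Cfsg.IsNormalizerPStable p G) :
    (groupFusionSystem (S : Subgroup G)).core ≠ ⊥ := by
  set Z := Cfsg.centerThompsonAOf (S : Subgroup G) with hZ
  have hZW : Cfsg.inducedFunctor (fun Q _ => zjA Q) (S : Subgroup G) = Z := map_subtype_zjA _
  haveI : Nontrivial ↥(S : Subgroup G) := (Subgroup.nontrivial_iff_ne_bot _).mpr hS
  have hne : Z ≠ ⊥ := by
    rw [← hZW]
    intro h
    exact zjA_ne_bot S.isPGroup'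
      ((Subgroup.map_eq_bot_iff_of_injective _ (Subgroup.subtype_injective _)).mp h)
  have hle : Z ≤ (S : Subgroup G) := by rw [← hZW]; exact Subgroup.map_subtype_le _
  have hctl := strongCtl_zjA (p := p) hp G hst
  have hclosed : (groupFusionSystem (S : Subgroup G)).StronglyClosed Z := by
    refine stronglyClosed_iff.mpr ⟨hle, fun R f hf x hxR hxZ => ?_⟩
    obtain ⟨-, hfS, g, hg⟩ := isMap_group_iff.mp hf
    rw [hg x hxR]
    obtain ⟨n, hn, he⟩ := hctl S {x} g (Set.singleton_subset_iff.mpr (hle hxZ))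
      (by rintro _ ⟨y, hy, rfl⟩; rw [Set.mem_singleton_iff.mp hy]; show g * x * g⁻¹ ∈ (S : Subgroup G); rw [← hg x hxR]; exact hfS x hxR)
    rw [← he x rfl]
    rw [hZW] at hn
    exact (Subgroup.mem_normalizer_iff.mp hn x).mp hxZ
  have hab : ∀ x ∈ Z, ∀ y ∈ Z, x * y = y * x := fun x hx y hy =>
    Subgroup.mem_centralizer_iff.mp hy.2 x hx.1
  have hnormal := isNormal_of_abelian S.isPGroup' (groupFusionSystem_isSaturated S) hclosed hab
  intro hcore
  exact hne (le_bot_iff.mp (hcore ▸ le_sSup hnormal))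

end Cfsg.Agent.Fus93.PStable
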